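/-
Groups with an abelian normal subgroup with cyclic supplement, and groups of order p^4.

* `card_commutator_mul_card_inf_centralizer`: `A` normal abelian, `A ⊔ ⟨x⟩ = G` gives `|G'| * |C_A(x)| = |A|`
* `index_center_ne_prime`, `card_commutator_eq_iff`, `nilpotencyClass_le_two_iff`
-/
import Cfsg.Agent.EqLemmas

set_option autoImplicit false

namespace Cfsg.Agent.PGroupFour

open scoped commutatorElement

variable {G : Type*} [Group G]

/-- If `A` is normal abelian and `A` and `x` generate, then `a ↦ ⁅x, a⁆` maps `A` onto `G'`. -/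
theorem card_commutator_mul_card_inf_centralizer [Finite G] (A : Subgroup G) [A.Normal]
    [hA : IsMulCommutative A] (x : G) (hgen : A ⊔ Subgroup.zpowers x = ⊤) :
    Nat.card (commutator G) * Nat.card (A ⊓ Subgroup.centralizer {x} : Subgroup G) = Nat.card A := by
  have hcomm : ∀ a ∈ A, ∀ b ∈ A, a * b = b * a :=
    fun a ha b hb => congr_arg Subtype.val (hA.is_comm.comm ⟨a, ha⟩ ⟨b, hb⟩)
  have hx : ∀ a ∈ A, x * a * x⁻¹ * a⁻¹ ∈ A :=
    fun a ha => A.mul_mem (Subgroup.Normal.conj_mem ‹_› a ha x) (A.inv_mem ha)
  let δ : A →* G :=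
    { toFun := fun a => x * (a : G) * x⁻¹ * (a : G)⁻¹
      map_one' := by simp
      map_mul' := by
        rintro ⟨a, ha⟩ ⟨b, hb⟩
        simp only [Subgroup.coe_mul, mul_inv_rev]
        calc x * (a * b) * x⁻¹ * (b⁻¹ * a⁻¹)
            = (x * a * x⁻¹) * ((x * b * x⁻¹ * b⁻¹) * a⁻¹) := by group
          _ = (x * a * x⁻¹) * (a⁻¹ * (x * b * x⁻¹ * b⁻¹)) := by
              rw [hcomm _ (hx b hb) _ (A.inv_mem ha)]
          _ = x * a * x⁻¹ * a⁻¹ * (x * b * x⁻¹ * b⁻¹) := by group }
  have hδ : ∀ a : A, δ a = x * (a : G) * x⁻¹ * (a : G)⁻¹ := fun a => rfl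
  have hBA : δ.range ≤ A := by
    rintro _ ⟨a, rfl⟩
    exact hx a a.2
  have hle : δ.range ≤ commutator G := by
    rintro _ ⟨a, rfl⟩
    rw [hδ, ← commutatorElement_def]
    exact Subgroup.commutator_mem_commutator (Subgroup.mem_top _) (Subgroup.mem_top _)
  have hnorm : δ.range.Normal := by
    rw [← Subgroup.normalizer_eq_top_iff, eq_top_iff, ← hgen, sup_le_iff, Subgroup.zpowers_le]
    constructor
    · intro a ha
      rw [Subgroup.mem_normalizer_iff]
      intro b
      constructor
      · intro hb
        rwa [hcomm a ha b (hBA hb), mul_inv_cancel_right]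
      · intro hb
        have hb' : b ∈ A := by
          have := A.mul_mem (A.mul_mem (A.inv_mem ha) (hBA hb)) ha
          simpa [mul_assoc] using this
        rwa [hcomm a ha b hb', mul_inv_cancel_right] at hb
    · rw [Subgroup.mem_normalizer_iff]
      intro b
      constructor
      · rintro ⟨a, rfl⟩
        refine ⟨⟨x * a * x⁻¹, Subgroup.Normal.conj_mem ‹_› _ a.2 x⟩, ?_⟩
        simp only [hδ]
        group
      · rintro ⟨a, ha⟩
        refine ⟨⟨x⁻¹ * a * x, by simpa using Subgroup.Normal.conj_mem ‹_› _ a.2 x⁻¹⟩, ?_⟩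
        have hb : b = x⁻¹ * δ a * x := by rw [ha]; group
        rw [hb, hδ, hδ]
        group
  haveI := hnorm
  have hge : commutator G ≤ δ.range := by
    have key : Subgroup.center (G ⧸ δ.range) = ⊤ := by
      have hsurj := QuotientGroup.mk'_surjective δ.range
      have h1 : (⊤ : Subgroup (G ⧸ δ.range)) = A.map (QuotientGroup.mk' δ.range) ⊔
          Subgroup.zpowers (QuotientGroup.mk' δ.range x) := by
        rw [← MonoidHom.map_zpowers, ← Subgroup.map_sup, hgen, Subgroup.map_top_of_surjective _ hsurj]
      have hxa : ∀ a ∈ A, Commute (QuotientGroup.mk' δ.range x) (QuotientGroup.mk' δ.range a) := by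
        intro a ha
        rw [← commutatorElement_eq_one_iff_commute, ← map_commutatorElement, QuotientGroup.mk'_apply,
          QuotientGroup.eq_one_iff]
        exact ⟨⟨a, ha⟩, rfl⟩
      have htop : ∀ z, (∀ a ∈ A, Commute z (QuotientGroup.mk' δ.range a)) →
          Commute z (QuotientGroup.mk' δ.range x) → z ∈ Subgroup.center (G ⧸ δ.range) := by
        intro z hza hzx
        rw [Subgroup.mem_center_iff]
        intro w
        have hw : w ∈ Subgroup.centralizer {z} := by
          have h2 : (⊤ : Subgroup (G ⧸ δ.range)) ≤ Subgroup.centralizer {z} := by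
            rw [h1, sup_le_iff, Subgroup.zpowers_le, Subgroup.map_le_iff_le_comap]
            exact ⟨fun a ha => Subgroup.mem_centralizer_singleton_iff.mpr (hza a ha).eq.symm,
              Subgroup.mem_centralizer_singleton_iff.mpr hzx.eq.symm⟩
          exact h2 (Subgroup.mem_top w)
        exact Subgroup.mem_centralizer_singleton_iff.mp hw
      rw [eq_top_iff, h1, sup_le_iff, Subgroup.zpowers_le, Subgroup.map_le_iff_le_comap]
      refine ⟨fun a ha => htop _ (fun b hb => ?_) (hxa a ha).symm, htop _ hxa (Commute.refl _)⟩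
      rw [Commute, SemiconjBy, ← map_mul, ← map_mul, hcomm a ha b hb]
    intro g hg
    have hmap : (commutator G).map (QuotientGroup.mk' δ.range) ≤ ⊥ := by
      rw [commutator_def, Subgroup.map_commutator, Subgroup.commutator_le]
      intro a _ b _
      rw [Subgroup.mem_bot, commutatorElement_eq_one_iff_mul_comm]
      exact (Subgroup.mem_center_iff.mp (key ▸ Subgroup.mem_top b)) a
    exact (QuotientGroup.eq_one_iff _).mp (Subgroup.mem_bot.mp (hmap ⟨g, hg, rfl⟩))
  rw [le_antisymm hge hle, mul_comm]
  have hk : Nat.card (A ⊓ Subgroup.centralizer {x} : Subgroup G) = Nat.card δ.ker := by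
    refine Nat.card_congr
      { toFun := fun a => ⟨⟨a.1, a.2.1⟩, ?_⟩
        invFun := fun a => ⟨a.1.1, a.1.2, ?_⟩
        left_inv := fun a => rfl
        right_inv := fun a => rfl }
    · rw [MonoidHom.mem_ker, hδ, ← Subgroup.mem_centralizer_singleton_iff.mp a.2.2]
      group
    · show (a.1.1 : G) ∈ Subgroup.centralizer {x}
      rw [Subgroup.mem_centralizer_singleton_iff]
      have := a.2
      rw [MonoidHom.mem_ker, hδ, mul_inv_eq_one, mul_inv_eq_iff_eq_mul] at this
      exact this.symm
  rw [hk, ← δ.ker.card_mul_index, Subgroup.index_ker]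

variable [Finite G] {p : ℕ} [hp : Fact p.Prime]

omit [Finite G] in
theorem index_center_ne_prime : (Subgroup.center G).index ≠ p := by
  intro h
  haveI : IsCyclic (G ⧸ Subgroup.center G) := isCyclic_of_prime_card (p := p) h
  haveI := isMulCommutative_of_isCyclic_quotient_center_self G
  have h1 : Subgroup.center G = ⊤ :=
    eq_top_iff.mpr fun a _ => Subgroup.mem_center_iff.mpr fun b => IsMulCommutative.is_comm.comm b a
  rw [h1, Subgroup.index_top] at h
  exact hp.out.one_lt.ne h

variable (hG : Nat.card G = p ^ 4)

include hG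

theorem isPGroup : IsPGroup p G := IsPGroup.of_card hG

theorem index_center_eq (h1 : (Subgroup.center G).index ≠ 1) :
    (Subgroup.center G).index = p ^ 2 ∨ (Subgroup.center G).index = p ^ 3 := by
  haveI : Nontrivial G := Finite.one_lt_card_iff_nontrivial.mp
    (by rw [hG]; exact Nat.one_lt_pow (by norm_num) hp.out.one_lt)
  obtain ⟨k, hk⟩ := (isPGroup hG).index (Subgroup.center G)
  have hmul := (Subgroup.center G).card_mul_index
  have h2 : 1 < Nat.card (Subgroup.center G) := by
    haveI := (isPGroup hG).center_nontrivial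
    exact Finite.one_lt_card
  rw [hk, hG] at hmul
  have h3 : p ^ k < p ^ 4 := by
    rw [← hmul]
    exact lt_mul_left (pow_pos hp.out.pos k) h2
  have h4 : k < 4 := (Nat.pow_lt_pow_iff_right hp.out.one_lt).mp h3
  interval_cases k
  · exact absurd hk h1
  · exact absurd (by simpa using hk) (index_center_ne_prime (p := p))
  · exact Or.inl hk
  · exact Or.inr hk

theorem index_center_of_card_commutator (h : Nat.card (commutator G) = p) :
    (Subgroup.center G).index = p ^ 2 := by
  have hne1 : (Subgroup.center G).index ≠ 1 := by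
    intro h1
    rw [Subgroup.index_eq_one] at h1
    have hbot : commutator G = ⊥ := by
      rw [commutator_def, Subgroup.commutator_eq_bot_iff_le_centralizer]
      intro a _
      rw [Subgroup.mem_centralizer_iff]
      intro b _
      exact Subgroup.mem_center_iff.mp (h1 ▸ Subgroup.mem_top a) b
    rw [hbot, Subgroup.card_bot] at h
    exact hp.out.one_lt.ne h
  have hcent : ∀ z : G, z ∉ Subgroup.center G → (Subgroup.centralizer {z}).index = p := by
    intro z hz
    obtain ⟨k, hk⟩ := (isPGroup hG).index (Subgroup.centralizer {z})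
    have hle : (Subgroup.centralizer {z}).index ≤ p := by
      rw [← h]
      refine Nat.card_le_card_of_injective (fun q : G ⧸ Subgroup.centralizer {z} =>
        (⟨⁅q.out, z⁆, Subgroup.commutator_mem_commutator (Subgroup.mem_top _) (Subgroup.mem_top _)⟩ :
          commutator G)) ?_
      intro q₁ q₂ h12
      have h13 : ⁅q₁.out, z⁆ = ⁅q₂.out, z⁆ := congr_arg Subtype.val h12
      rw [commutatorElement_def, commutatorElement_def, mul_left_inj] at h13
      rw [← q₁.out_eq', ← q₂.out_eq', QuotientGroup.eq, Subgroup.mem_centralizer_singleton_iff]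
      have h14 := congr_arg (fun t => q₁.out⁻¹ * t * q₂.out) h13
      simpa [mul_assoc] using h14.symm
    have hk1 : k ≤ 1 := (Nat.pow_le_pow_iff_right hp.out.one_lt).mp (by rw [← hk, pow_one]; exact hle)
    interval_cases k
    · exfalso
      rw [pow_zero, Subgroup.index_eq_one, Subgroup.centralizer_eq_top_iff_subset,
        Set.singleton_subset_iff] at hk
      exact hz hk
    · simpa using hk
  obtain ⟨x, hx⟩ : ∃ x, x ∉ Subgroup.center G := by
    by_contra hh
    push Not at hh
    exact hne1 (Subgroup.index_eq_one.mpr (eq_top_iff.mpr fun a _ => hh a))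
  obtain ⟨y, hy⟩ : ∃ y, y ∉ Subgroup.centralizer {x} := by
    by_contra hh
    push Not at hh
    have := hcent x hx
    have htop : Subgroup.centralizer {x} = ⊤ := eq_top_iff.mpr fun a _ => hh a
    rw [htop, Subgroup.index_top] at this
    exact hp.out.one_lt.ne this
  have hy' : y ∉ Subgroup.center G := fun hh => hy
    (Subgroup.mem_centralizer_singleton_iff.mpr (Subgroup.mem_center_iff.mp hh x).symm)
  let D := Subgroup.centralizer {x} ⊓ Subgroup.centralizer {y}
  have hxD : x ∉ D := fun hh => hy
    (Subgroup.mem_centralizer_singleton_iff.mpr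
      (Subgroup.mem_centralizer_singleton_iff.mp hh.2).symm)
  have hxx : ∀ w : G, w ∈ Subgroup.centralizer {w} :=
    fun w => Subgroup.mem_centralizer_singleton_iff.mpr rfl
  have hDi : D.index = p ^ 2 := by
    have h1 : D.index ≤ p ^ 2 :=
      Subgroup.index_inf_le.trans (by rw [hcent x hx, hcent y hy', pow_two])
    obtain ⟨k, hk⟩ := (isPGroup hG).index D
    have h2 := Subgroup.index_strictAnti (show D < Subgroup.centralizer {x} from
      lt_of_le_of_ne inf_le_left fun hh => hxD (by rw [hh]; exact hxx x))
    rw [hcent x hx] at h2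
    have hk2 : k ≤ 2 := (Nat.pow_le_pow_iff_right hp.out.one_lt).mp (hk ▸ h1)
    interval_cases k
    · rw [hk] at h2; simp at h2; have := hp.out.one_lt; omega
    · rw [hk] at h2; simp at h2
    · exact hk
  have hDc : Nat.card D = p ^ 2 := by
    have := D.card_mul_index
    rw [hDi, hG, show p ^ 4 = p ^ 2 * p ^ 2 by ring] at this
    exact Nat.eq_of_mul_eq_mul_right (pow_pos hp.out.pos 2) this
  haveI := IsPGroup.isMulCommutative_of_card_eq_prime_sq hDc
  have hDZ : D ≤ Subgroup.center G := by
    intro d hd
    by_contra hdz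
    have hcd := hcent d hdz
    have hle : D ≤ Subgroup.centralizer {d} := fun e he =>
      Subgroup.mem_centralizer_singleton_iff.mpr
        (congr_arg Subtype.val (IsMulCommutative.is_comm.comm (⟨e, he⟩ : D) ⟨d, hd⟩))
    have hxd : x ∈ Subgroup.centralizer {d} := Subgroup.mem_centralizer_singleton_iff.mpr
      (Subgroup.mem_centralizer_singleton_iff.mp hd.1).symm
    have hyd : y ∈ Subgroup.centralizer {d} := Subgroup.mem_centralizer_singleton_iff.mpr
      (Subgroup.mem_centralizer_singleton_iff.mp hd.2).symm
    let E := Subgroup.centralizer {d} ⊓ Subgroup.centralizer {x}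
    have hE1 : D < E := lt_of_le_of_ne (le_inf hle inf_le_left) fun hh => hxD (by
      rw [hh]; exact ⟨hxd, hxx x⟩)
    have hE2 : E < Subgroup.centralizer {d} := lt_of_le_of_ne inf_le_left fun hh => hy
      ((hh.symm ▸ hyd : y ∈ E).2)
    have h1 := Subgroup.index_strictAnti hE1
    have h2 := Subgroup.index_strictAnti hE2
    rw [hDi] at h1
    rw [hcd] at h2
    obtain ⟨k, hk⟩ := (isPGroup hG).index E
    rw [hk] at h1 h2
    have hk2 : k < 2 := (Nat.pow_lt_pow_iff_right hp.out.one_lt).mp h1
    have hk1 : 1 < k := (Nat.pow_lt_pow_iff_right hp.out.one_lt).mp (by rw [pow_one]; exact h2)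
    omega
  rcases index_center_eq hG hne1 with h2 | h3
  · exact h2
  · exfalso
    have := Subgroup.index_antitone hDZ
    rw [hDi, h3] at this
    have := (Nat.pow_le_pow_iff_right hp.out.one_lt).mp this
    omega

theorem card_commutator_of_index_center (h : (Subgroup.center G).index = p ^ 2) :
    Nat.card (commutator G) = p := by
  set Z := Subgroup.center G with hZ
  have hne : Z ≠ ⊤ := by
    intro hh
    rw [hh, Subgroup.index_top] at h
    exact (Nat.one_lt_pow (by norm_num) hp.out.one_lt).ne h
  obtain ⟨y, hy⟩ : ∃ y, y ∉ Z := by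
    by_contra hh
    push Not at hh
    exact hne (eq_top_iff.mpr fun a _ => hh a)
  let A := Z ⊔ Subgroup.zpowers y
  have hAc : A ≤ Subgroup.centralizer (A : Set G) := by
    refine sup_le (fun z hz => Subgroup.mem_centralizer_iff.mpr fun w _ =>
      Subgroup.mem_center_iff.mp hz w) ?_
    rw [Subgroup.zpowers_le, Subgroup.mem_centralizer_iff]
    intro w hw
    have : A ≤ Subgroup.centralizer {y} := sup_le
      (fun z hz => Subgroup.mem_centralizer_singleton_iff.mpr (Subgroup.mem_center_iff.mp hz y).symm)
      (Subgroup.zpowers_le.mpr (Subgroup.mem_centralizer_singleton_iff.mpr rfl))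
    exact Subgroup.mem_centralizer_singleton_iff.mp (this hw)
  haveI : IsMulCommutative A :=
    ⟨⟨fun a b => Subtype.ext (Subgroup.mem_centralizer_iff.mp (hAc b.2) a.1 a.2)⟩⟩
  have hAt : A ≠ ⊤ := by
    intro hh
    apply hy
    rw [hZ, Subgroup.mem_center_iff]
    intro w
    exact Subgroup.mem_centralizer_iff.mp (hAc (hh ▸ Subgroup.mem_top y : y ∈ A)) w
      (hh ▸ Subgroup.mem_top w)
  have hAi : A.index = p := by
    have h1 := Subgroup.index_strictAnti (show Z < A from lt_of_le_of_ne le_sup_left fun hh => hy (by
      rw [hh]; exact (le_sup_right : Subgroup.zpowers y ≤ A) (Subgroup.mem_zpowers y)))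
    rw [h] at h1
    obtain ⟨k, hk⟩ := (isPGroup hG).index A
    rw [hk] at h1
    have hk2 := (Nat.pow_lt_pow_iff_right hp.out.one_lt).mp h1
    interval_cases k
    · exact absurd (Subgroup.index_eq_one.mp (by simpa using hk)) hAt
    · simpa using hk
  haveI : A.Normal := by
    refine Subgroup.normal_of_index_eq_minFac_card ?_
    rw [hAi, hG, Nat.Prime.pow_minFac hp.out (by norm_num)]
  obtain ⟨x, hx⟩ : ∃ x, x ∉ A := by
    by_contra hh
    push Not at hh
    exact hAt (eq_top_iff.mpr fun a _ => hh a)
  have hgen : A ⊔ Subgroup.zpowers x = ⊤ := by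
    by_contra hh
    have h1 := Subgroup.index_strictAnti (show A < A ⊔ Subgroup.zpowers x from
      lt_of_le_of_ne le_sup_left fun h2 => hx (by
        rw [h2]; exact (le_sup_right : Subgroup.zpowers x ≤ _) (Subgroup.mem_zpowers x)))
    obtain ⟨k, hk⟩ := (isPGroup hG).index (A ⊔ Subgroup.zpowers x)
    rw [hAi, hk] at h1
    rcases Nat.eq_zero_or_pos k with rfl | hk0
    · exact hh (Subgroup.index_eq_one.mp (by simpa using hk))
    · exact absurd h1 (not_lt.mpr (Nat.le_pow hk0))
  have hC : A ⊓ Subgroup.centralizer {x} = Z := by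
    refine le_antisymm ?_ (le_inf le_sup_left fun z hz =>
      Subgroup.mem_centralizer_singleton_iff.mpr (Subgroup.mem_center_iff.mp hz x).symm)
    intro a ha
    rw [hZ, Subgroup.mem_center_iff]
    intro w
    have hw : A ⊔ Subgroup.zpowers x ≤ Subgroup.centralizer {a} := sup_le
      (fun b hb => Subgroup.mem_centralizer_singleton_iff.mpr
        (Subgroup.mem_centralizer_iff.mp (hAc ha.1) b hb))
      (Subgroup.zpowers_le.mpr (Subgroup.mem_centralizer_singleton_iff.mpr
        (Subgroup.mem_centralizer_singleton_iff.mp ha.2).symm))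
    exact Subgroup.mem_centralizer_singleton_iff.mp (hw (hgen ▸ Subgroup.mem_top w))
  have hm := card_commutator_mul_card_inf_centralizer A x hgen
  rw [hC] at hm
  have h1 := Z.card_mul_index
  have h2 := A.card_mul_index
  rw [h, ← h2, hAi, ← hm] at h1
  have hpos : 0 < Nat.card Z * p := Nat.mul_pos Nat.card_pos hp.out.pos
  apply Nat.eq_of_mul_eq_mul_left hpos
  linarith

omit hG in
theorem nilpotencyClass_le_two_iff [Group.IsNilpotent G] [Nontrivial G] :
    Group.nilpotencyClass G ≤ 2 ↔ commutator G ≤ Subgroup.center G := by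
  rw [Group.nilpotencyClass_eq_quotient_center_plus_one, add_le_add_iff_right (a := 1) (b := _) (c := 1),
    Group.IsNilpotent.nilpotencyClass_le_one_iff, ← Subgroup.Normal.quotient_commutative_iff_commutator_le]

theorem index_commutator_eq_iff :
    (commutator G).index = p ^ 2 ↔ Group.nilpotencyClass G = 3 := by
  haveI := (isPGroup hG).isNilpotent
  haveI : Nontrivial G := Finite.one_lt_card_iff_nontrivial.mp
    (by rw [hG]; exact Nat.one_lt_pow (by norm_num) hp.out.one_lt)
  have hmul := (commutator G).card_mul_index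
  have hpp : 0 < p ^ 2 := pow_pos hp.out.pos 2
  have hcQ : Nat.card (G ⧸ Subgroup.center G) = (Subgroup.center G).index := rfl
  have hQtriv : ∀ {Q : Type _} [Group Q] [Finite Q], Nat.card Q = p ^ 2 →
      ∀ [Group.IsNilpotent Q], Group.nilpotencyClass Q ≤ 1 := by
    intro Q _ _ hQ _
    exact Group.IsNilpotent.nilpotencyClass_le_one_iff.mpr (IsPGroup.isMulCommutative_of_card_eq_prime_sq hQ)
  constructor
  · intro h
    have hc : Nat.card (commutator G) = p ^ 2 := by
      rw [h, hG, show p ^ 4 = p ^ 2 * p ^ 2 by ring] at hmul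
      exact Nat.eq_of_mul_eq_mul_right hpp hmul
    have hne1 : (Subgroup.center G).index ≠ 1 := by
      intro h1
      rw [Subgroup.index_eq_one] at h1
      have hbot : commutator G = ⊥ := by
        rw [commutator_def, Subgroup.commutator_eq_bot_iff_le_centralizer]
        intro a _
        rw [Subgroup.mem_centralizer_iff]
        intro b _
        exact Subgroup.mem_center_iff.mp (h1 ▸ Subgroup.mem_top a) b
      rw [hbot, Subgroup.card_bot] at hc
      exact (Nat.one_lt_pow (by norm_num) hp.out.one_lt).ne hc
    have hne2 : (Subgroup.center G).index ≠ p ^ 2 := by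
      intro h2
      rw [card_commutator_of_index_center hG h2] at hc
      have : p ^ 1 = p ^ 2 := by simpa using hc
      exact absurd (Nat.pow_right_injective hp.out.two_le this) (by norm_num)
    have h3 : (Subgroup.center G).index = p ^ 3 := (index_center_eq hG hne1).resolve_left hne2
    have hnle : ¬ Group.nilpotencyClass G ≤ 2 := by
      rw [nilpotencyClass_le_two_iff]
      intro hle
      have h4 := Subgroup.index_antitone hle
      rw [h3, h] at h4
      have := (Nat.pow_le_pow_iff_right hp.out.one_lt).mp h4
      omega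
    have hle3 : Group.nilpotencyClass G ≤ 3 := by
      have e1 : Group.nilpotencyClass G = Group.nilpotencyClass (G ⧸ Subgroup.center G) + 1 :=
        Group.nilpotencyClass_eq_quotient_center_plus_one
      haveI : Nontrivial (G ⧸ Subgroup.center G) := Finite.one_lt_card_iff_nontrivial.mp
        (by rw [hcQ, h3]; exact Nat.one_lt_pow (by norm_num) hp.out.one_lt)
      have e2 : Group.nilpotencyClass (G ⧸ Subgroup.center G) =
          Group.nilpotencyClass ((G ⧸ Subgroup.center G) ⧸ Subgroup.center (G ⧸ Subgroup.center G)) + 1 :=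
        Group.nilpotencyClass_eq_quotient_center_plus_one
      obtain ⟨k, hk⟩ := (IsPGroup.of_card (hcQ.trans h3)).index (Subgroup.center (G ⧸ Subgroup.center G))
      haveI := (IsPGroup.of_card (hcQ.trans h3)).center_nontrivial
      have hlt : p ^ k < p ^ 3 := by
        rw [← hk, ← h3, ← hcQ, ← (Subgroup.center (G ⧸ Subgroup.center G)).card_mul_index]
        exact lt_mul_left (Nat.pos_of_ne_zero Subgroup.index_ne_zero_of_finite) Finite.one_lt_card
      have hk3 := (Nat.pow_lt_pow_iff_right hp.out.one_lt).mp hlt
      have e3 : Group.nilpotencyClass ((G ⧸ Subgroup.center G) ⧸ Subgroup.center (G ⧸ Subgroup.center G)) ≤ 1 := by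
        interval_cases k
        · refine Group.IsNilpotent.nilpotencyClass_le_one_iff.mpr ?_
          haveI : Subsingleton ((G ⧸ Subgroup.center G) ⧸ Subgroup.center (G ⧸ Subgroup.center G)) :=
            (Nat.card_eq_one_iff_unique.mp (by simpa [← Subgroup.index_eq_card] using hk)).1
          exact ⟨⟨fun a b => Subsingleton.elim _ _⟩⟩
        · exact absurd (by simpa using hk) (index_center_ne_prime (G := G ⧸ Subgroup.center G) (p := p))
        · exact hQtriv hk
      omega
    omega
  · intro h
    have hnle : ¬ commutator G ≤ Subgroup.center G := by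
      rw [← nilpotencyClass_le_two_iff]; omega
    obtain ⟨k, hk⟩ := (isPGroup hG).index (commutator G)
    rw [hk]
    suffices k = 2 by rw [this]
    have hk4 : k ≤ 4 := (Nat.pow_le_pow_iff_right hp.out.one_lt).mp (by
      rw [← hk, ← hG]; exact Nat.le_of_dvd Nat.card_pos (commutator G).index_dvd_card)
    have e1 : Group.nilpotencyClass G = Group.nilpotencyClass (G ⧸ Subgroup.center G) + 1 :=
      Group.nilpotencyClass_eq_quotient_center_plus_one
    have hpQ : IsPGroup p (G ⧸ Subgroup.center G) := (isPGroup hG).to_quotient _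
    have hne1 : (Subgroup.center G).index ≠ 1 := fun h1 => hnle (by
      rw [Subgroup.index_eq_one.mp h1]; exact le_top)
    have h3 : (Subgroup.center G).index = p ^ 3 := by
      refine (index_center_eq hG hne1).resolve_left fun h2 => ?_
      have := hQtriv (hcQ.trans h2)
      omega
    have hQ2 : ¬ IsMulCommutative (G ⧸ Subgroup.center G) := fun hc => by
      have := Group.IsNilpotent.nilpotencyClass_le_one_iff.mpr hc
      omega
    interval_cases k
    · -- perfect
      exfalso
      rw [pow_zero, Subgroup.index_eq_one] at hk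
      haveI : Group.IsSolvable G := IsNilpotent.to_isSolvable
      exact (Group.IsSolvable.commutator_lt_top_of_nontrivial G).ne hk
    · -- index p
      exfalso
      rw [pow_one] at hk
      haveI : Nontrivial (G ⧸ Subgroup.center G) := Finite.one_lt_card_iff_nontrivial.mp
        (by rw [hcQ, h3]; exact Nat.one_lt_pow (by norm_num) hp.out.one_lt)
      have hR : commutator (G ⧸ Subgroup.center G) ≤ Subgroup.center (G ⧸ Subgroup.center G) :=
        nilpotencyClass_le_two_iff.mp (by omega)
      have himg : (commutator G).map (QuotientGroup.mk' (Subgroup.center G)) ≤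
          Subgroup.center (G ⧸ Subgroup.center G) := by
        refine le_trans ?_ hR
        rw [commutator_def, Subgroup.map_commutator]
        exact Subgroup.commutator_mono le_top le_top
      have h5 : (Subgroup.center (G ⧸ Subgroup.center G)).index ∣ p :=
        (Subgroup.index_dvd_of_le himg).trans
          (by rw [← hk]; exact Subgroup.index_map_dvd _ (QuotientGroup.mk'_surjective _))
      rcases (Nat.dvd_prime hp.out).mp h5 with h6 | h6
      · apply hQ2
        rw [Subgroup.index_eq_one] at h6
        exact ⟨⟨fun a b => Subgroup.mem_center_iff.mp (h6 ▸ Subgroup.mem_top b) a⟩⟩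
      · exact index_center_ne_prime h6
    · rfl
    · exfalso
      have hc : Nat.card (commutator G) = p := by
        rw [hk, hG, show p ^ 4 = p * p ^ 3 by ring] at hmul
        exact Nat.eq_of_mul_eq_mul_right (pow_pos hp.out.pos 3) hmul
      rw [index_center_of_card_commutator hG hc] at h3
      exact absurd (Nat.pow_right_injective hp.out.two_le h3) (by norm_num)
    · exfalso
      apply hnle
      have hc : Nat.card (commutator G) = 1 := by
        rw [hk, hG] at hmul
        exact Nat.eq_of_mul_eq_mul_right (pow_pos hp.out.pos 4) (hmul.trans (one_mul _).symm)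
      rw [Subgroup.card_eq_one.mp hc]
      exact bot_le

end Cfsg.Agent.PGroupFour
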